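import Groth.Agent.TorsExtLib.Props
import Groth.Agent.AlgSpLib.FpqcMore
import Groth.Prelude.Def_ChGrp

/-! Working fppf-locally on points. -/

set_option autoImplicit false
universe u

noncomputable section

open CategoryTheory CategoryTheory.Limits MonoidalCategory CartesianMonoidalCategory MonObj AlgebraicGeometry

namespace ChGrpFixLib

variable {S : Scheme.{u}}

/-- An fppf cover of a test object. -/
structure IsCov {T T' : Over S} (c : T' ⟶ T) : Prop where
  flat : Flat c.left
  surj : Surjective c.left
  lfp : LocallyOfFinitePresentation c.left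

theorem IsCov.epi {T T' : Over S} {c : T' ⟶ T} (hc : IsCov c) : Epi c := by
  haveI := hc.flat
  haveI := hc.surj
  haveI : Epi c.left := Flat.epi_of_flat_of_surjective _
  exact Over.epi_of_epi_left c

/-- If `j` has sections locally, every point lifts to a point of the source on a cover. -/
theorem exists_lift {A Y : Over S} (j : A ⟶ Y)
    (hj : NonAbH1.IsLocallyTrivialFor Scheme.fppfPrecoverage (Over.mk j.left : Over Y.left))
    {T : Over S} (y : T ⟶ Y) :
    ∃ (T' : Over S) (c : T' ⟶ T) (a : T' ⟶ A), IsCov c ∧ a ≫ j = c ≫ y := by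
  obtain ⟨T0, hf, hs, hl, ⟨t⟩⟩ := TorsExtLib.exists_cover hj
  let c : Over.mk (pullback.fst y.left T0.hom ≫ T.hom) ⟶ T := Over.homMk (pullback.fst y.left T0.hom) rfl
  have ht : t.left ≫ j.left = T0.hom := Over.w t
  refine ⟨_, c, Over.homMk (pullback.snd y.left T0.hom ≫ t.left) ?_, ⟨?_, ?_, ?_⟩, ?_⟩
  · have hj' : j.left ≫ Y.hom = A.hom := Over.w j
    change (pullback.snd y.left T0.hom ≫ t.left) ≫ A.hom = pullback.fst y.left T0.hom ≫ T.hom
    rw [← hj', Category.assoc, reassoc_of% ht, ← pullback.condition_assoc, Over.w y]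
  · exact MorphismProperty.pullback_fst (P := @Flat) _ _ hf
  · exact MorphismProperty.pullback_fst (P := @Surjective) _ _ hs
  · exact MorphismProperty.pullback_fst (P := @LocallyOfFinitePresentation) _ _ hl
  · apply Over.OverMorphism.ext
    change (pullback.snd y.left T0.hom ≫ t.left) ≫ j.left = pullback.fst y.left T0.hom ≫ y.left
    rw [Category.assoc, ht, pullback.condition]

/-- A point which locally comes from a monomorphism comes from it. -/
theorem exists_factor_of_cov {Y' Y : Over S} (m : Y' ⟶ Y) [Mono m] {T T' : Over S} {c : T' ⟶ T}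
    (hc : IsCov c) (y : T ⟶ Y) (y₁ : T' ⟶ Y') (h : y₁ ≫ m = c ≫ y) : ∃ y' : T ⟶ Y', y' ≫ m = y := by
  haveI : Mono m.left := inferInstance
  have hQ : (@Surjective ⊓ @Flat ⊓ @LocallyOfFinitePresentation : MorphismProperty Scheme.{u}) c.left :=
    ⟨⟨hc.surj, hc.flat⟩, hc.lfp⟩
  have hl : y₁.left ≫ m.left = c.left ≫ y.left := congrArg (·.left) h
  let p : pullback m.left y.left ⟶ T.left := pullback.snd m.left y.left
  let q : pullback c.left p ⟶ T'.left := pullback.fst c.left p
  let s : T'.left ⟶ pullback c.left p := pullback.lift (𝟙 _) (pullback.lift y₁.left c.left hl)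
    (by simp only [p, Category.id_comp, pullback.lift_snd])
  have hsq : s ≫ q = 𝟙 _ := pullback.lift_fst _ _ _
  haveI : IsIso q := by
    refine ⟨⟨s, ?_, hsq⟩⟩
    rw [← cancel_mono q, Category.assoc, hsq, Category.comp_id, Category.id_comp]
  haveI : IsIso p := MorphismProperty.of_pullback_fst_of_descendsAlong
    (P := MorphismProperty.isomorphisms Scheme.{u}) (Q := @Surjective ⊓ @Flat ⊓ @LocallyOfFinitePresentation)
    hQ (inferInstanceAs (IsIso q))
  have hm : inv p ≫ pullback.fst m.left y.left ≫ m.left = y.left := by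
    rw [pullback.condition]; exact IsIso.inv_hom_id_assoc p y.left
  have hw : (inv p ≫ pullback.fst m.left y.left) ≫ Y'.hom = T.hom := by
    have e := congrArg (fun z => z ≫ Y.hom) hm
    simp only [Category.assoc, Over.w m, Over.w y] at e
    simpa only [Category.assoc] using e
  exact ⟨Over.homMk (inv p ≫ pullback.fst m.left y.left) hw,
    Over.OverMorphism.ext (by simpa only [Over.comp_left, Over.homMk_left, Category.assoc] using hm)⟩

end ChGrpFixLib
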